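import Groth.Agent.DerCat.AdjHomotopy
import Mathlib.Algebra.Homology.DerivedCategory.RightDerivedFunctorPlus
import Mathlib.CategoryTheory.Functor.Derived.Adjunction
import Mathlib.CategoryTheory.Functor.Derived.PointwiseLeftDerived
import Mathlib.CategoryTheory.Adjunction.Restrict
import Mathlib.Algebra.Homology.DerivedCategory.ExactFunctor

/-! # The derived adjunction of an exact left adjoint on bounded below derived categories -/

set_option autoImplicit false
set_option backward.isDefEq.respectTransparency false
set_option backward.defeqAttrib.useBackward true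

universe w w' v u v' u'

open CategoryTheory CategoryTheory.Limits

namespace Groth.Agent.DerPlusAdj

variable {B : Type u'} [Category.{v'} B] [Abelian B] {C : Type u} [Category.{v} C] [Abelian C]
  {L : B ⥤ C} {R : C ⥤ B}

/-- the adjunction on bounded below homotopy categories -/
noncomputable def adjPlus (adj : L ⊣ R) [L.Additive] [R.Additive] :
    L.mapHomotopyCategoryPlus ⊣ R.mapHomotopyCategoryPlus :=
  (DerCat.adjHomotopy adj (ComplexShape.up ℤ)).restrictFullyFaithful
    (HomotopyCategory.plus B).fullyFaithfulι (HomotopyCategory.plus C).fullyFaithfulι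
    (Iso.refl _) (Iso.refl _)

theorem inverts_of_exact [HasDerivedCategory.{w} C] (L : B ⥤ C) [L.Additive]
    [PreservesFiniteLimits L] [PreservesFiniteColimits L] :
    (HomotopyCategory.Plus.quasiIso B).IsInvertedBy
      (L.mapHomotopyCategoryPlus ⋙ DerivedCategory.Plus.Qh (C := C)) := by
  let _ := HasDerivedCategory.standard B
  intro X Y f hf
  have h1 : IsIso ((DerivedCategory.Qh ⋙ L.mapDerivedCategory).map f.hom) := by
    have := Localization.inverts DerivedCategory.Qh (HomotopyCategory.quasiIso B _) f.hom hf
    dsimp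
    infer_instance
  have h2 : IsIso ((L.mapHomotopyCategory (ComplexShape.up ℤ) ⋙ DerivedCategory.Qh).map f.hom) :=
    (NatIso.isIso_map_iff L.mapDerivedCategoryFactorsh f.hom).1 h1
  have : IsIso (DerivedCategory.Plus.ι.map ((L.mapHomotopyCategoryPlus ⋙ DerivedCategory.Plus.Qh).map f)) := h2
  exact isIso_of_reflects_iso _ DerivedCategory.Plus.ι

/-- `L ⊣ R`, `L` exact: `RL ⊣ RR` on bounded below derived categories. -/
theorem nonempty_adjPlus [HasDerivedCategory.{w'} B] [HasDerivedCategory.{w} C] [EnoughInjectives B]
    [EnoughInjectives C] (adj : L ⊣ R) [L.Additive] [R.Additive]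
    [PreservesFiniteLimits L] [PreservesFiniteColimits L] :
    Nonempty (L.rightDerivedFunctorPlus ⊣ R.rightDerivedFunctorPlus) := by
  let W₁ := HomotopyCategory.Plus.quasiIso B
  let W₂ := HomotopyCategory.Plus.quasiIso C
  let LF := L.rightDerivedFunctorPlus
  let RG := R.rightDerivedFunctorPlus
  let β := R.rightDerivedFunctorPlusUnit
  have hL : IsIso L.rightDerivedFunctorPlusUnit :=
    Functor.isIso_of_isRightDerivedFunctor_of_inverts LF L.rightDerivedFunctorPlusUnit (inverts_of_exact L)
  let α : DerivedCategory.Plus.Qh ⋙ LF ≅ L.mapHomotopyCategoryPlus ⋙ DerivedCategory.Plus.Qh :=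
    (asIso L.rightDerivedFunctorPlusUnit).symm
  have : LF.IsLeftDerivedFunctor α.hom W₁ := Functor.isLeftDerivedFunctor_of_inverts W₁ LF α
  have : (LF ⋙ RG).IsLeftDerivedFunctor
      ((Functor.associator _ _ _).inv ≫ Functor.whiskerRight α.hom RG) W₁ :=
    Functor.isLeftDerivedFunctor_of_inverts W₁ (LF ⋙ RG)
      ((Functor.associator _ _ _).symm ≪≫ Functor.isoWhiskerRight α RG)
  have : (RG ⋙ LF).IsRightDerivedFunctor
      (Functor.whiskerRight β LF ≫ (Functor.associator _ _ _).hom) W₂ := by
    refine (HomotopyCategory.Plus.localizerMorphism_derives _).isRightDerivedFunctor_of_isIso _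
      (fun X => ?_)
    have : IsIso (β.app ((InjectiveObject.ι C).mapHomotopyCategoryPlus.obj X)) := inferInstance
    dsimp
    infer_instance
  exact ⟨(adjPlus adj).derived W₁ W₂ α.hom β⟩

end Groth.Agent.DerPlusAdj
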