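import Groth.Prelude.Def_SixF1
import Mathlib.CategoryTheory.Preadditive.Injective.Preserves

/-! # Composition of right derived functors on bounded below derived categories -/

set_option autoImplicit false
set_option backward.isDefEq.respectTransparency false
set_option backward.defeqAttrib.useBackward true

universe v₁ v₂ v₃ u₁ u₂ u₃

open CategoryTheory CategoryTheory.Limits

namespace Groth.Agent.DerPlusAdj

variable {A : Type u₁} [Category.{v₁} A] [Abelian A] {B : Type u₂} [Category.{v₂} B] [Abelian B]
  {C : Type u₃} [Category.{v₃} C] [Abelian C]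

theorem isIso_plusNatTrans {F G : A ⥤ B} [F.Additive] [G.Additive] (α : F ⟶ G) [IsIso α] :
    IsIso (EtSix.plusNatTrans α) := by
  have h : ∀ X, IsIso ((NatTrans.mapHomotopyCategory α (ComplexShape.up ℤ)).app X) := fun X => by
    have : IsIso ((NatTrans.mapHomologicalComplex α (ComplexShape.up ℤ)).app X.as) := by
      have : ∀ n, IsIso (((NatTrans.mapHomologicalComplex α (ComplexShape.up ℤ)).app X.as).f n) := fun n => by
        dsimp
        infer_instance
      exact HomologicalComplex.Hom.isIso_of_components _
    dsimp
    infer_instance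
  have : ∀ X, IsIso ((EtSix.plusNatTrans α).app X) := fun X => by
    have : IsIso ((HomotopyCategory.Plus.ι B).map ((EtSix.plusNatTrans α).app X)) := h X.obj
    exact isIso_of_reflects_iso _ (HomotopyCategory.Plus.ι B)
  exact NatIso.isIso_of_isIso_app _

variable [HasDerivedCategory A] [HasDerivedCategory B] [HasDerivedCategory C]

theorem isIso_rPlusDesc₂ {F : A ⥤ B} {G : B ⥤ C} {H : A ⥤ C} [F.Additive] [G.Additive] [H.Additive]
    [EnoughInjectives A] [EnoughInjectives B] (θ : H ⟶ F ⋙ G) [IsIso θ]
    (hF : F.PreservesInjectiveObjects) : IsIso (EtSix.rPlusDesc₂ θ) := by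
  have := isIso_plusNatTrans θ
  have h : (F.rightDerivedFunctorPlus ⋙ G.rightDerivedFunctorPlus).IsRightDerivedFunctor
      (EtSix.rPlusUnit₂ θ) (HomotopyCategory.Plus.quasiIso A) := by
    refine (HomotopyCategory.Plus.localizerMorphism_derives _).isRightDerivedFunctor_of_isIso _
      (fun X => ?_)
    let I := (InjectiveObject.ι A).mapHomotopyCategoryPlus.obj X
    have h1 : IsIso (F.rightDerivedFunctorPlusUnit.app I) := inferInstance
    have : ∀ n, Injective ((F.mapHomotopyCategoryPlus.obj I).obj.as.X n) := fun n => by
      show Injective (F.obj (I.obj.as.X n))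
      infer_instance
    have h2 : IsIso (G.rightDerivedFunctorPlusUnit.app (F.mapHomotopyCategoryPlus.obj I)) := inferInstance
    dsimp [EtSix.rPlusUnit₂]
    simp only [Category.comp_id, Category.id_comp]
    infer_instance
  exact (H.rightDerivedFunctorPlus.isRightDerivedFunctor_iff_isIso_rightDerivedDesc
    H.rightDerivedFunctorPlusUnit (HomotopyCategory.Plus.quasiIso A) _ _).1 h

end Groth.Agent.DerPlusAdj
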